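import Groth.Agent.HomTranslLib.Basic
import Groth.Agent.RichLib.FibreCrit
import Groth.Agent.DepthLib.SmoothCons
import Groth.Agent.Unram17Lib.FibreMap
import Groth.Agent.FlatLib.SchemeFlat
import Groth.Agent.DiagRepLib.Split
import Groth.Prelude.Def_Red

/-!
The loci where a homomorphism of group schemes has a given property are unions of fibres.
-/

set_option autoImplicit false
set_option backward.isDefEq.respectTransparency false

noncomputable section

universe u

open CategoryTheory CategoryTheory.Limits MonoidalCategory CartesianMonoidalCategory AlgebraicGeometry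
open scoped MonObj

namespace Groth.Agent.GrpLoci

theorem isPullback_map {S S' : Scheme.{u}} (g : S' ⟶ S) {X Y : Over S} (v : X ⟶ Y) :
    IsPullback (pullback.fst X.hom g) ((Over.pullback g).map v).left v.left (pullback.fst Y.hom g) := by
  refine IsPullback.of_bot (v₂₁ := pullback.snd Y.hom g) (v₂₂ := Y.hom) (h₃₁ := g) ?_ ?_
    (IsPullback.of_hasPullback Y.hom g)
  · rw [show ((Over.pullback g).map v).left ≫ pullback.snd Y.hom g = pullback.snd X.hom g from Over.w _,
      Over.w v]
    exact IsPullback.of_hasPullback X.hom g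
  · exact (pullback.lift_fst _ _ _).symm

/-- The fibre over a point of the target is unramified only near unramified points. -/
theorem exists_unramified_nhd {X Y : Scheme.{u}} (f : X ⟶ Y) [LocallyOfFiniteType f] (x : X)
    (h : FormallyUnramified (f.fiberToSpecResidueField (f x))) :
    ∃ W : X.Opens, x ∈ W ∧ FormallyUnramified (W.ι ≫ f) := by
  obtain ⟨U, hU, hxU, -⟩ := exists_isAffineOpen_mem_and_subset (X := Y) (x := f x) (U := ⊤) trivial
  obtain ⟨V, hV, hxV, hVU⟩ := exists_isAffineOpen_mem_and_subset (X := X) (x := x) (U := f ⁻¹ᵁ U) hxU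
  letI := (f.appLE U V hVU).hom.toAlgebra
  haveI : Algebra.FiniteType Γ(Y, U) Γ(X, V) := f.finiteType_appLE hU hV hVU
  let φ : Γ(Y, U) ⟶ Γ(X, V) := f.appLE U V hVU
  have hsq : Spec.map φ ≫ hU.fromSpec = hV.fromSpec ≫ f :=
    IsAffineOpen.SpecMap_appLE_fromSpec f hU hV hVU
  let Q : PrimeSpectrum Γ(X, V) := hV.primeIdealOf ⟨x, hxV⟩
  let p : PrimeSpectrum Γ(Y, U) := PrimeSpectrum.comap (algebraMap Γ(Y, U) Γ(X, V)) Q
  have hp : hU.fromSpec p = f x := by
    have := congrArg (fun m => m.base Q) hsq
    simp only [Scheme.Hom.comp_apply] at this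
    exact this.trans (congrArg f (hV.fromSpec_primeIdealOf ⟨x, hxV⟩))
  have h1 : FormallyUnramified ((hV.fromSpec ≫ f).fiberToSpecResidueField (f x)) := by
    haveI : FormallyUnramified hV.fromSpec := inferInstance
    rw [Scheme.Hom.fiberToSpecResidueField, ← pullbackRightPullbackFstIso_inv_snd_snd]
    exact MorphismProperty.comp_mem @FormallyUnramified _ _ inferInstance
      (MorphismProperty.comp_mem @FormallyUnramified _ _
        (MorphismProperty.pullback_snd _ _ inferInstance) h)
  have h2 : FormallyUnramified ((Spec.map φ).fiberToSpecResidueField p) := by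
    have sq : IsPullback (𝟙 (Spec Γ(X, V))) (Spec.map φ) (hV.fromSpec ≫ f) hU.fromSpec :=
      ⟨⟨by rw [Category.id_comp, hsq]⟩, ⟨PullbackCone.IsLimit.mk _ (fun s => s.fst) (fun s => Category.comp_id _)
        (fun s => by rw [← cancel_mono hU.fromSpec, Category.assoc, hsq, s.condition])
        fun s m hm _ => by rwa [Category.comp_id] at hm⟩⟩
    exact MorphismProperty.of_isPullback (isPullback_fiberToSpecResidueField_of_isPullback sq p)
      (hp ▸ h1)
  have hfib : Algebra.FormallyUnramified p.asIdeal.ResidueField (p.asIdeal.Fiber Γ(X, V)) := by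
    rw [← RingHom.formallyUnramified_algebraMap, ← CommRingCat.hom_ofHom (algebraMap p.asIdeal.ResidueField (p.asIdeal.Fiber Γ(X, V))),
      ← HasRingHomProperty.Spec_iff (P := @FormallyUnramified), ← MorphismProperty.arrow_mk_iso_iff (P := @FormallyUnramified)
      (Spec.fiberToSpecResidueFieldIso Γ(Y, U) Γ(X, V) p)]
    exact h2
  have hQ : Q ∈ Algebra.unramifiedLocus Γ(Y, U) Γ(X, V) := by
    rw [Algebra.unramifiedLocus_eq_compl_support]
    intro hQ
    rw [Module.mem_support_iff_nontrivial_residueField_tensorProduct] at hQ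
    haveI := hfib
    haveI : Q.asIdeal.LiesOver p.asIdeal := ⟨rfl⟩
    let F := p.asIdeal.Fiber Γ(X, V)
    let L := Q.asIdeal.ResidueField
    let ψ : F →ₐ[Γ(Y, U)] L := Algebra.TensorProduct.lift
      (Ideal.ResidueField.mapₐ p.asIdeal Q.asIdeal (Algebra.ofId Γ(Y, U) Γ(X, V)) rfl)
      (IsScalarTower.toAlgHom Γ(Y, U) Γ(X, V) L) (fun _ _ => .all _ _)
    letI : Algebra F L := ψ.toRingHom.toAlgebra
    letI : Algebra Γ(X, V) F := Algebra.TensorProduct.rightAlgebra
    haveI : IsScalarTower Γ(X, V) F L := .of_algebraMap_eq fun s => by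
      show algebraMap Γ(X, V) L s = ψ (algebraMap Γ(X, V) F s)
      simp [ψ, F, Algebra.TensorProduct.right_algebraMap_apply]
    haveI : Subsingleton (TensorProduct Γ(X, V) F Ω[Γ(X, V)⁄Γ(Y, U)]) :=
      (KaehlerDifferential.tensorKaehlerEquiv Γ(Y, U) p.asIdeal.ResidueField Γ(X, V) F).toEquiv.subsingleton
    haveI : Subsingleton (TensorProduct Γ(X, V) L Ω[Γ(X, V)⁄Γ(Y, U)]) :=
      (TensorProduct.AlgebraTensorModule.cancelBaseChange Γ(X, V) F L L Ω[Γ(X, V)⁄Γ(Y, U)]).symm.toEquiv.subsingleton
    exact not_nontrivial_iff_subsingleton.mpr this hQ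
  obtain ⟨_, ⟨_, ⟨g, rfl⟩, rfl⟩, hgQ, hg⟩ :=
    PrimeSpectrum.isBasis_basic_opens.exists_subset_of_mem_open hQ Algebra.isOpen_unramifiedLocus
  have hg' := Algebra.basicOpen_subset_unramifiedLocus_iff.1 hg
  refine ⟨X.basicOpen g, ?_, ?_⟩
  · rw [← hV.fromSpec_image_basicOpen]
    exact ⟨Q, hgQ, hV.fromSpec_primeIdealOf ⟨x, hxV⟩⟩
  · have hle : X.basicOpen g ≤ f ⁻¹ᵁ U := (X.basicOpen_le g).trans hVU
    haveI : IsAffine (X.basicOpen g).toScheme := hV.basicOpen g
    haveI : IsAffine U.toScheme := hU
    rw [← Scheme.Hom.resLE_comp_ι f hle]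
    haveI : FormallyUnramified (f.resLE U (X.basicOpen g) hle) := by
      rw [HasRingHomProperty.iff_of_isAffine (P := @FormallyUnramified)]
      refine (RingHom.FormallyUnramified.propertyIsLocal.respectsIso.arrow_mk_iso_iff
        (arrowResLEAppIso f U (X.basicOpen g) hle)).mpr ?_
      haveI := hV.isLocalization_basicOpen g
      have e : (f.appLE U (X.basicOpen g) hle).hom =
          (algebraMap Γ(X, V) Γ(X, X.basicOpen g)).comp (algebraMap Γ(Y, U) Γ(X, V)) := by
        rw [← Scheme.Hom.appLE_map f hVU (homOfLE (X.basicOpen_le g)).op]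
        rfl
      letI := (f.appLE U (X.basicOpen g) hle).hom.toAlgebra
      haveI : IsScalarTower Γ(Y, U) Γ(X, V) Γ(X, X.basicOpen g) := .of_algebraMap_eq' e
      rw [← RingHom.algebraMap_toAlgebra (f.appLE U (X.basicOpen g) hle).hom]
      exact RingHom.formallyUnramified_algebraMap.2 (Algebra.FormallyUnramified.of_equiv
        ((IsLocalization.algEquiv (Submonoid.powers g) (Localization.Away g) Γ(X, X.basicOpen g)).restrictScalars Γ(Y, U)))
    exact MorphismProperty.comp_mem @FormallyUnramified _ _ ‹_› inferInstance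

/-- The fibre over a point of the target is a base change of the fibre over its image in the base. -/
theorem fiber_of_fibre {P : MorphismProperty Scheme.{u}} [P.IsStableUnderBaseChange] {X Y S : Scheme.{u}}
    (g : Y ⟶ S) (f : X ⟶ Y) (y : Y) (h : P (pullback.snd f (g.fiberι (g y)))) :
    P (f.fiberToSpecResidueField y) := by
  let l : Spec (Y.residueField y) ⟶ g.fiber (g y) :=
    pullback.lift (Y.fromSpecResidueField y) (Spec.map (g.residueFieldMap y)) (by simp)
  have hl : l ≫ g.fiberι (g y) = Y.fromSpecResidueField y := pullback.lift_fst ..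
  let k : f.fiber y ⟶ pullback f (g.fiberι (g y)) :=
    pullback.lift (f.fiberι y) (f.fiberToSpecResidueField y ≫ l)
      (by rw [Category.assoc, hl]; exact f.fiber_fac y)
  suffices hsq : IsPullback k (f.fiberToSpecResidueField y) (pullback.snd f (g.fiberι (g y))) l from
    MorphismProperty.of_isPullback hsq h
  refine IsPullback.of_right (h₁₂ := pullback.fst f (g.fiberι (g y))) (h₂₂ := g.fiberι (g y)) ?_
    (pullback.lift_snd ..) (IsPullback.of_hasPullback f (g.fiberι (g y)))
  rw [pullback.lift_fst, hl]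
  exact IsPullback.of_hasPullback _ _

variable {S : Scheme.{u}} {G H : Over S} (u : G ⟶ H)

/-- The induced morphism of fibres. -/
abbrev onFibre (s : S) := (Over.pullback (S.fromSpecResidueField s)).map u

theorem prop_snd_fiberι (P : MorphismProperty Scheme.{u}) [P.IsStableUnderBaseChange] (s : S)
    (h : P (onFibre u s).left) : P (pullback.snd u.left (H.hom.fiberι s)) := by
  have sq := isPullback_map (S.fromSpecResidueField s) u
  show P (pullback.snd u.left (pullback.fst H.hom (S.fromSpecResidueField s)))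
  rw [← sq.isoPullback_inv_snd]
  exact (P.cancel_left_of_respectsIso _ _).2 h

theorem fibre_target (P : MorphismProperty Scheme.{u}) [P.IsStableUnderBaseChange] (x : G.left)
    (h : P (onFibre u (G.hom.base x)).left) : P (u.left.fiberToSpecResidueField (u.left x)) := by
  refine fiber_of_fibre H.hom u.left (u.left x) (prop_snd_fiberι u P _ ?_)
  have e : H.hom (u.left x) = G.hom.base x := by
    rw [← Scheme.Hom.comp_apply, Over.w]
  rw [e]
  exact h

variable [GrpObj G]

/-- Openness of the set of good fibres and the description of the good points. -/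
theorem isOpen_and_eq (P : MorphismProperty Scheme.{u}) [P.IsStableUnderBaseChange]
    (hspread : ∀ (s : S) (W : (Red.bc (S.fromSpecResidueField s) G).left.Opens),
      (W : Set ↥(Red.bc (S.fromSpecResidueField s) G).left).Nonempty → P (W.ι ≫ (onFibre u s).left) → P (onFibre u s).left)
    (hnear : ∀ x : G.left, P (onFibre u (G.hom.base x)).left → ∃ W : G.left.Opens, x ∈ W ∧ P (W.ι ≫ u.left)) :
    IsOpen {s : S | P (onFibre u s).left} ∧
      {x : G.left | ∃ W : G.left.Opens, x ∈ W ∧ P (W.ι ≫ u.left)} = G.hom.base ⁻¹' {s : S | P (onFibre u s).left} := by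
  have heq : {x : G.left | ∃ W : G.left.Opens, x ∈ W ∧ P (W.ι ≫ u.left)} =
      G.hom.base ⁻¹' {s : S | P (onFibre u s).left} := by
    ext x
    refine ⟨fun ⟨W, hxW, hW⟩ => ?_, hnear x⟩
    let c := S.fromSpecResidueField (G.hom.base x)
    obtain ⟨z, hz⟩ : x ∈ Set.range (pullback.fst G.hom c).base := by
      rw [Scheme.Pullback.range_fst, Scheme.range_fromSpecResidueField]
      rfl
    refine hspread _ (pullback.fst G.hom c ⁻¹ᵁ W) ⟨z, show (pullback.fst G.hom c).base z ∈ W from hz.symm ▸ hxW⟩ ?_
    exact MorphismProperty.of_isPullback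
      ((isPullback_morphismRestrict (pullback.fst G.hom c) W).paste_vert (isPullback_map c u)) hW
  refine ⟨?_, heq⟩
  have hopen : IsOpen {x : G.left | ∃ W : G.left.Opens, x ∈ W ∧ P (W.ι ≫ u.left)} :=
    isOpen_iff_forall_mem_open.2 fun x ⟨W, hx, hW⟩ => ⟨W, fun y hy => ⟨W, hy, hW⟩, W.2, hx⟩
  have e : {s : S | P (onFibre u s).left} = (η[G].left.base : S → G.left) ⁻¹' {x | ∃ W : G.left.Opens, x ∈ W ∧ P (W.ι ≫ u.left)} := by
    rw [heq]
    ext s
    have hs : G.hom.base (η[G].left.base s) = s := by
      rw [← Scheme.Hom.comp_apply, Over.w η[G]]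
      rfl
    simp only [Set.mem_preimage, Set.mem_setOf_eq]
    rw [hs]
  rw [e]
  exact hopen.preimage η[G].left.continuous

variable [GrpObj H] [IsMonHom u]

/-- The action of the fibre of `G` on the fibre of `H`. -/
abbrev actFibre (s : S) : AlgGrp.Action (Red.bc (S.fromSpecResidueField s) G) (Red.bc (S.fromSpecResidueField s) H) :=
  haveI : IsMonHom (M := Red.bc (S.fromSpecResidueField s) G) (N := Red.bc (S.fromSpecResidueField s) H) (onFibre u s) :=
    DiagRep.isMonHom_bc_map _ u
  HomTransl.homAction (onFibre u s)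

theorem equivariant_fibre (s : S) :
    μ[Red.bc (S.fromSpecResidueField s) G] ≫ onFibre u s =
      (Red.bc (S.fromSpecResidueField s) G ◁ onFibre u s) ≫ (actFibre u s).act :=
  haveI : IsMonHom (M := Red.bc (S.fromSpecResidueField s) G) (N := Red.bc (S.fromSpecResidueField s) H) (onFibre u s) :=
    DiagRep.isMonHom_bc_map _ u
  HomTransl.hom_equivariant (onFibre u s)

theorem flat_spread (s : S) (W : (Red.bc (S.fromSpecResidueField s) G).left.Opens)
    (hne : (W : Set ↥(Red.bc (S.fromSpecResidueField s) G).left).Nonempty)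
    (hW : Flat (W.ι ≫ (onFibre u s).left)) : Flat (onFibre u s).left := by
  obtain ⟨x₀, hx₀⟩ := hne
  exact HomTransl.flat_of_flatAt (a := actFibre u s) (equivariant_fibre u s) x₀
    (Unram17Lib.flat_stalkMap_of_exists _ ⟨W, hx₀, hW⟩)

theorem lqf_spread [LocallyOfFiniteType u.left] (s : S) (W : (Red.bc (S.fromSpecResidueField s) G).left.Opens)
    (hne : (W : Set ↥(Red.bc (S.fromSpecResidueField s) G).left).Nonempty)
    (hW : LocallyQuasiFinite (W.ι ≫ (onFibre u s).left)) : LocallyQuasiFinite (onFibre u s).left :=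
  haveI : LocallyOfFiniteType (onFibre u s).left := MorphismProperty.of_isPullback (isPullback_map _ u) ‹_›
  HomTransl.lqf_of_open (a := actFibre u s) (equivariant_fibre u s) W hne

theorem unramified_spread [LocallyOfFiniteType u.left] (s : S) (W : (Red.bc (S.fromSpecResidueField s) G).left.Opens)
    (hne : (W : Set ↥(Red.bc (S.fromSpecResidueField s) G).left).Nonempty)
    (hW : FormallyUnramified (W.ι ≫ (onFibre u s).left)) : FormallyUnramified (onFibre u s).left :=
  haveI : LocallyOfFiniteType (onFibre u s).left := MorphismProperty.of_isPullback (isPullback_map _ u) ‹_›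
  HomTransl.unramified_of_open (a := actFibre u s) (equivariant_fibre u s) W hne

theorem smooth_spread [LocallyOfFinitePresentation G.hom] (s : S)
    (W : (Red.bc (S.fromSpecResidueField s) G).left.Opens)
    (hne : (W : Set ↥(Red.bc (S.fromSpecResidueField s) G).left).Nonempty)
    (hW : Smooth (W.ι ≫ (onFibre u s).left)) : Smooth (onFibre u s).left :=
  haveI : LocallyOfFinitePresentation (Red.bc (S.fromSpecResidueField s) G).hom :=
    MorphismProperty.pullback_snd (P := @LocallyOfFinitePresentation) _ _ inferInstance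
  HomTransl.smooth_of_open (a := actFibre u s) (equivariant_fibre u s) W hne

theorem etale_spread [LocallyOfFinitePresentation G.hom] (s : S)
    (W : (Red.bc (S.fromSpecResidueField s) G).left.Opens)
    (hne : (W : Set ↥(Red.bc (S.fromSpecResidueField s) G).left).Nonempty)
    (hW : Etale (W.ι ≫ (onFibre u s).left)) : Etale (onFibre u s).left :=
  haveI : LocallyOfFinitePresentation (Red.bc (S.fromSpecResidueField s) G).hom :=
    MorphismProperty.pullback_snd (P := @LocallyOfFinitePresentation) _ _ inferInstance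
  HomTransl.etale_of_open (a := actFibre u s) (equivariant_fibre u s) W hne

section

omit [GrpObj G] [GrpObj H] [IsMonHom u]

theorem lfp_hom [LocallyOfFinitePresentation G.hom] [LocallyOfFiniteType H.hom] : LocallyOfFinitePresentation u.left :=
  haveI : LocallyOfFinitePresentation (u.left ≫ H.hom) := (Over.w u).symm ▸ inferInstance
  Unram17Lib.lfp_of_comp_lft u.left H.hom

theorem flat_near [Flat G.hom] [LocallyOfFinitePresentation G.hom] [LocallyOfFiniteType H.hom] (x : G.left)
    (h : Flat (onFibre u (G.hom.base x)).left) : ∃ W : G.left.Opens, x ∈ W ∧ Flat (W.ι ≫ u.left) := by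
  haveI : LocallyOfFinitePresentation (u.left ≫ H.hom) := (Over.w u).symm ▸ inferInstance
  haveI : Flat (u.left ≫ H.hom) := (Over.w u).symm ▸ inferInstance
  have e : G.hom.base x = H.hom (u.left x) := by
    rw [← Scheme.Hom.comp_apply, Over.w]
  rw [e] at h
  haveI := RichLib.FibreCrit.flat_fiberMap (P := @Flat) H.hom u.left _ (prop_snd_fiberι u @Flat _ h)
  obtain ⟨O, hO, hxO, hOf⟩ := (FlatLib.fibre_criterion_near u.left H.hom x).2
    ((FlatLib.fibre_criterion_near u.left H.hom x).1.mp ⟨Flat.stalkMap _ x, Flat.stalkMap _ _⟩)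
  refine ⟨⟨O, hO⟩, hxO, Flat.of_stalkMap _ fun z => ?_⟩
  rw [Scheme.Hom.stalkMap_comp]
  exact (RingHom.Flat.respectsIso.cancel_right_isIso (u.left.stalkMap _) _).mpr (hOf _ z.2).2

theorem unramified_near [LocallyOfFiniteType u.left] (x : G.left)
    (h : FormallyUnramified (onFibre u (G.hom.base x)).left) :
    ∃ W : G.left.Opens, x ∈ W ∧ FormallyUnramified (W.ι ≫ u.left) :=
  exists_unramified_nhd u.left x (fibre_target u @FormallyUnramified x h)

theorem smooth_near [Flat G.hom] [LocallyOfFinitePresentation G.hom] [LocallyOfFiniteType H.hom] (x : G.left)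
    (h : Smooth (onFibre u (G.hom.base x)).left) : ∃ W : G.left.Opens, x ∈ W ∧ Smooth (W.ι ≫ u.left) := by
  haveI := lfp_hom u
  haveI := fibre_target u @Smooth x h
  rw [← Unram17Lib.smoothLocus_iff_exists, DepthLib.mem_smoothLocus_iff]
  refine ⟨Unram17Lib.flat_stalkMap_of_exists u.left (flat_near u x inferInstance), ?_⟩
  rw [Scheme.Hom.smoothLocus_eq_top]
  trivial

theorem etale_near [Flat G.hom] [LocallyOfFinitePresentation G.hom] [LocallyOfFiniteType H.hom] (x : G.left)
    (h : Etale (onFibre u (G.hom.base x)).left) : ∃ W : G.left.Opens, x ∈ W ∧ Etale (W.ι ≫ u.left) := by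
  haveI := lfp_hom u
  obtain ⟨W₁, hx₁, h₁⟩ := flat_near u x inferInstance
  obtain ⟨W₂, hx₂, h₂⟩ := unramified_near u x inferInstance
  haveI : Flat ((W₁ ⊓ W₂).ι ≫ u.left) := by
    rw [← G.left.homOfLE_ι (inf_le_left : W₁ ⊓ W₂ ≤ W₁), Category.assoc]
    infer_instance
  haveI : FormallyUnramified ((W₁ ⊓ W₂).ι ≫ u.left) := by
    rw [← G.left.homOfLE_ι (inf_le_right : W₁ ⊓ W₂ ≤ W₂), Category.assoc]
    exact MorphismProperty.comp_mem @FormallyUnramified _ _ inferInstance h₂
  exact ⟨W₁ ⊓ W₂, ⟨hx₁, hx₂⟩, Etale.iff_flat_and_formallyUnramified.mpr ⟨inferInstance, inferInstance, inferInstance⟩⟩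

theorem lqf_near [LocallyOfFiniteType u.left] (x : G.left)
    (h : LocallyQuasiFinite (onFibre u (G.hom.base x)).left) :
    ∃ W : G.left.Opens, x ∈ W ∧ LocallyQuasiFinite (W.ι ≫ u.left) := by
  let c := S.fromSpecResidueField (G.hom.base x)
  obtain ⟨z, hz⟩ : x ∈ Set.range (pullback.fst G.hom c).base := by
    rw [Scheme.Pullback.range_fst, Scheme.range_fromSpecResidueField]
    rfl
  have hq := (RichLib.QFLocus.quasiFiniteAt_iff_of_isPullback (isPullback_map c u) z).mp
    ((onFibre u (G.hom.base x)).left.quasiFiniteAt z)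
  rw [hz] at hq
  refine ⟨u.left.quasiFiniteLocus, hq, ?_⟩
  rw [← Scheme.Hom.quasiFiniteLocus_eq_top_iff, eq_top_iff]
  rintro ⟨w, hw⟩ -
  show (u.left.quasiFiniteLocus.ι ≫ u.left).QuasiFiniteAt ⟨w, hw⟩
  rw [Scheme.Hom.quasiFiniteAt_comp_iff_of_isOpenImmersion]
  exact hw

end

end Groth.Agent.GrpLoci

namespace Groth.Agent.GrpLoci

theorem isOpenImmersion_of_etale {X Y : Scheme.{u}} (f : X ⟶ Y) [Etale f] [UniversallyInjective f] :
    IsOpenImmersion f := by
  haveI : Surjective (pullback.diagonal f) := (UniversallyInjective.iff_diagonal f).mp ‹_›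
  haveI : IsIso (pullback.diagonal f) := by
    rw [isIso_iff_isOpenImmersion_and_surjective]
    exact ⟨inferInstance, inferInstance⟩
  haveI : Mono f := (pullback.isIso_diagonal_iff f).mp inferInstance
  exact IsOpenImmersion.of_flat_of_mono f

theorem openImmersion_loci {S : Scheme.{u}} {G H : Over S} [GrpObj G] [GrpObj H] (u : G ⟶ H) [IsMonHom u]
    [UniversallyInjective u.left] [Flat G.hom] [LocallyOfFinitePresentation G.hom] [LocallyOfFiniteType H.hom] :
    IsOpen {s : S | IsOpenImmersion (onFibre u s).left} ∧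
    ∀ W : S.Opens, (W : Set S) ⊆ {s : S | IsOpenImmersion (onFibre u s).left} →
      IsOpenImmersion ((G.hom ⁻¹ᵁ W).ι ≫ u.left) := by
  obtain ⟨hopen, heq⟩ := isOpen_and_eq u @Etale (etale_spread u) (etale_near u)
  have hset : {s : S | IsOpenImmersion (onFibre u s).left} = {s : S | Etale (onFibre u s).left} := by
    ext s
    haveI : UniversallyInjective (onFibre u s).left := MorphismProperty.of_isPullback (isPullback_map _ u) ‹_›
    exact ⟨fun (h : IsOpenImmersion _) => (inferInstance : Etale _),
      fun (h : Etale _) => isOpenImmersion_of_etale _⟩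
  refine ⟨hset ▸ hopen, fun W hW => ?_⟩
  haveI : Etale ((G.hom ⁻¹ᵁ W).ι ≫ u.left) := by
    haveI := lfp_hom u
    haveI : Smooth ((G.hom ⁻¹ᵁ W).ι ≫ u.left) := by
      refine Scheme.Hom.smoothLocus_eq_top_iff.mp (top_le_iff.mp fun z _ => ?_)
      obtain ⟨O, hzO, hO⟩ := (Set.ext_iff.mp heq z.1).mpr (hset ▸ hW z.2 : _)
      rw [← Scheme.Hom.preimage_smoothLocus_eq]
      exact (Unram17Lib.smoothLocus_iff_exists u.left z.1).mpr ⟨O, hzO, inferInstance⟩
    haveI : FormallyUnramified ((G.hom ⁻¹ᵁ W).ι ≫ u.left) := by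
      choose O hzO hO using fun z : ↥(G.hom ⁻¹ᵁ W).toScheme => (Set.ext_iff.mp heq z.1).mpr (hset ▸ hW z.2 : _)
      refine IsZariskiLocalAtSource.of_iSup_eq_top (P := @FormallyUnramified) (fun z => (G.hom ⁻¹ᵁ W).ι ⁻¹ᵁ O z)
        (eq_top_iff.mpr fun z _ => TopologicalSpace.Opens.mem_iSup.mpr ⟨z, hzO z⟩) fun z => ?_
      haveI := hO z
      rw [← Category.assoc, ← morphismRestrict_ι, Category.assoc]
      exact MorphismProperty.comp_mem @FormallyUnramified _ _ inferInstance inferInstance
    exact Etale.iff_flat_and_formallyUnramified.mpr ⟨inferInstance, inferInstance, inferInstance⟩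
  haveI : UniversallyInjective ((G.hom ⁻¹ᵁ W).ι ≫ u.left) :=
    MorphismProperty.comp_mem @UniversallyInjective _ _ inferInstance inferInstance
  exact isOpenImmersion_of_etale _

end Groth.Agent.GrpLoci
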