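import Groth.Agent.HomTranslLib.Basic
import Groth.Agent.Unram17Lib.FibreMap
import Groth.Agent.SweepSix.FlatCancel
import Groth.Agent.Thickening.Basic

/-!
The largest open on which a homomorphism has a property local for flat covers is a subgroup.
-/

set_option autoImplicit false
set_option backward.isDefEq.respectTransparency false

noncomputable section

universe u

open CategoryTheory CategoryTheory.Limits MonoidalCategory CartesianMonoidalCategory AlgebraicGeometry
open scoped MonObj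

namespace Groth.Agent.GrpLoci.MaxOpen

section Descend

variable {A B A' B' : Scheme.{u}} {v : A' ⟶ A} {d : A' ⟶ B'} {g : A ⟶ B} {w : B' ⟶ B}

theorem uOpen_descend (hw : UniversallyOpen w) (sq : IsPullback v d g w) (O : A'.Opens)
    (hs : Surjective (O.ι ≫ v)) (hd : UniversallyOpen (O.ι ≫ d)) : UniversallyOpen g := by
  haveI : UniversallyOpen ((O.ι ≫ v) ≫ g) := by
    rw [Category.assoc, sq.w, ← Category.assoc]; infer_instance
  exact ThickeningLib.universallyOpen_of_comp_surjective (O.ι ≫ v) g inferInstance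

variable [Flat w] [LocallyOfFinitePresentation w]

theorem flat_descend (sq : IsPullback v d g w) (O : A'.Opens) (hs : Surjective (O.ι ≫ v))
    (hd : Flat (O.ι ≫ d)) : Flat g := by
  refine Flat.of_stalkMap g fun a => ?_
  obtain ⟨z, rfl⟩ := hs.surj a
  exact (Groth.Agent.S5223.result sq (O.ι z)).mp (Unram17Lib.flat_stalkMap_of_exists d ⟨O, z.2, hd⟩)

theorem lfp_descend (sq : IsPullback v d g w) (O : A'.Opens) (hs : Surjective (O.ι ≫ v))
    (hd : LocallyOfFinitePresentation (O.ι ≫ d)) : LocallyOfFinitePresentation g := by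
  haveI : Flat v := MorphismProperty.of_isPullback sq.flip inferInstance
  haveI : LocallyOfFinitePresentation v := MorphismProperty.of_isPullback sq.flip inferInstance
  haveI : LocallyOfFinitePresentation ((O.ι ≫ v) ≫ g) := by
    rw [Category.assoc, sq.w, ← Category.assoc]; infer_instance
  exact Groth.Agent.S0114.result (O.ι ≫ v) g

theorem smooth_descend (sq : IsPullback v d g w) (O : A'.Opens) (hs : Surjective (O.ι ≫ v))
    (hd : Smooth (O.ι ≫ d)) : Smooth g := by
  haveI := lfp_descend sq O hs inferInstance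
  haveI : LocallyOfFinitePresentation d := MorphismProperty.of_isPullback sq inferInstance
  refine Scheme.Hom.smoothLocus_eq_top_iff.mp (top_le_iff.mp fun a _ => ?_)
  obtain ⟨z, rfl⟩ := hs.surj a
  exact (DepthLib.mem_smoothLocus_baseChange_scheme g w d v sq (Or.inr inferInstance) (O.ι z)).mp
    ((Unram17Lib.smoothLocus_iff_exists d (O.ι z)).mpr ⟨O, z.2, hd⟩)

theorem unramified_descend [LocallyOfFiniteType g] (sq : IsPullback v d g w) (O : A'.Opens) (hs : Surjective (O.ι ≫ v))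
    (hd : FormallyUnramified (O.ι ≫ d)) : FormallyUnramified g := by
  haveI : LocallyOfFiniteType d := MorphismProperty.of_isPullback sq inferInstance
  let e : pullback (O.ι ≫ d) (O.ι ≫ d) ⟶ pullback d d :=
    pullback.map _ _ _ _ O.ι O.ι (𝟙 _) (by simp) (by simp)
  haveI : IsOpenImmersion e := inferInstance
  have hc : O.ι ≫ pullback.diagonal d = pullback.diagonal (O.ι ≫ d) ≫ e :=
    pullback.comp_diagonal _ _
  haveI : Flat (O.ι ≫ pullback.diagonal d) := by rw [hc]; infer_instance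
  haveI : Flat (pullback.diagonal g) := Flat.of_stalkMap _ fun a => by
    obtain ⟨z, rfl⟩ := hs.surj a
    exact (HomTransl.diagFlatAt_iff sq (O.ι z)).mp
      (Unram17Lib.flat_stalkMap_of_exists (pullback.diagonal d) ⟨O, z.2, inferInstance⟩)
  haveI : LocallyOfFinitePresentation (pullback.diagonal g) := Groth.Agent.S4599.result g
  haveI : IsOpenImmersion (pullback.diagonal g) := IsOpenImmersion.of_flat_of_mono _
  infer_instance

theorem etale_descend (sq : IsPullback v d g w) (O : A'.Opens) (hs : Surjective (O.ι ≫ v))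
    (hd : Etale (O.ι ≫ d)) : Etale g := by
  haveI := smooth_descend sq O hs inferInstance
  haveI := unramified_descend sq O hs inferInstance
  exact Etale.iff_flat_and_formallyUnramified.mpr ⟨inferInstance, inferInstance, inferInstance⟩

end Descend

/-- The properties the argument applies to: a flat-local property with the class `Q` of covers it descends along. -/
structure Descends (Q P : MorphismProperty Scheme.{u}) : Prop where
  descend : ∀ {A B A' B' : Scheme.{u}} {v : A' ⟶ A} {d : A' ⟶ B'} {g : A ⟶ B} {w : B' ⟶ B}, Q w →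
    IsPullback v d g w → ∀ O : A'.Opens, Surjective (O.ι ≫ v) → P (O.ι ≫ d) → P g

variable {S : Scheme.{u}} {G H : Over S} [GrpObj G] [GrpObj H] (u : G ⟶ H) [IsMonHom u]
  {Q P : MorphismProperty Scheme.{u}} [P.IsStableUnderBaseChange] [Q.IsStableUnderBaseChange]

theorem image_le (hQO : ∀ {A B : Scheme.{u}} (f : A ⟶ B), Q f → UniversallyOpen f) (hD : Descends Q P)
    (V : G.left.Opens) (hV : P (V.ι ≫ u.left)) (hmax : ∀ W : G.left.Opens, P (W.ι ≫ u.left) → W ≤ V)
    {T : Over S} (ψ : T ⟶ G) (hT : Q T.hom) (z : ↥(T ⊗ G).left) (hz : (snd T G).left.base z ∈ V) :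
    ((ψ ▷ G) ≫ μ[G]).left.base z ∈ V := by
  let eG := GrpShear.shear (GrpShear.mulAction G) ψ
  let eH := GrpShear.shear (HomTransl.homAction u) ψ
  haveI : IsIso eG.hom.left := ((Over.forget _).mapIso eG).isIso_hom
  haveI : IsIso eH.hom.left := ((Over.forget _).mapIso eH).isIso_hom
  have heG : eG.hom ≫ snd T G = (ψ ▷ G) ≫ μ[G] := GrpShear.shear_hom_snd _ ψ
  have heH : eH.hom ≫ snd T H = (ψ ▷ H) ≫ (HomTransl.homAction u).act := GrpShear.shear_hom_snd _ ψ
  have hsq : IsPullback ((ψ ▷ G) ≫ μ[G]).left (T ◁ u).left u.left ((ψ ▷ H) ≫ (HomTransl.homAction u).act).left := by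
    rw [← heG, ← heH, Over.comp_left, Over.comp_left]
    refine IsPullback.paste_horiz (IsPullback.of_horiz_isIso ⟨?_⟩) (FinHom.isPullback_whiskerLeft T u).flip
    rw [← Over.comp_left, ← Over.comp_left]
    congr 1
    refine CartesianMonoidalCategory.hom_ext _ _ (by simp [eG, eH, GrpShear.shear]) ?_
    rw [Category.assoc, Category.assoc, heH, whiskerLeft_snd, reassoc_of% heG, HomTransl.hom_equivariant,
      ← whisker_exchange_assoc]
  have hQG : Q ((ψ ▷ G) ≫ μ[G]).left := GrpShear.act_left_prop (GrpShear.mulAction G) Q ψ hT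
  have hQH : Q ((ψ ▷ H) ≫ (HomTransl.homAction u).act).left := GrpShear.act_left_prop (HomTransl.homAction u) Q ψ hT
  let m := ((ψ ▷ G) ≫ μ[G]).left
  let A := (snd T G).left ⁻¹ᵁ V
  haveI : UniversallyOpen m := hQO _ hQG
  let W : G.left.Opens := ⟨m.base '' A, m.isOpenMap _ A.2⟩
  refine hmax W ?_ ⟨z, hz, rfl⟩
  have hA : P (A.ι ≫ (T ◁ u).left) :=
    MorphismProperty.of_isPullback
      ((isPullback_morphismRestrict (snd T G).left V).paste_vert (FinHom.isPullback_whiskerLeft T u).flip) hV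
  let O : (m ⁻¹ᵁ W).toScheme.Opens := (m ⁻¹ᵁ W).ι ⁻¹ᵁ A
  refine hD.descend hQH ((isPullback_morphismRestrict m W).paste_vert hsq) O ⟨?_⟩ ?_
  · rintro ⟨x, a, ha, rfl⟩
    refine ⟨⟨⟨a, ⟨a, ha, rfl⟩⟩, ha⟩, Subtype.ext ?_⟩
    show ((O.ι ≫ m ∣_ W) ≫ W.ι) _ = _
    rw [Category.assoc, morphismRestrict_ι]
    rfl
  · have hle : ∀ y : O.toScheme, (O.ι ≫ (m ⁻¹ᵁ W).ι) y ∈ A := fun y => y.2
    let r : O.toScheme ⟶ A.toScheme := IsOpenImmersion.lift A.ι (O.ι ≫ (m ⁻¹ᵁ W).ι)
      (by rintro _ ⟨y, rfl⟩; rw [Scheme.Opens.range_ι]; exact hle y)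
    rw [show O.ι ≫ (m ⁻¹ᵁ W).ι ≫ (T ◁ u).left = r ≫ A.ι ≫ (T ◁ u).left by
      simp only [← Category.assoc, r, IsOpenImmersion.lift_fac]]
    haveI : Surjective r := ⟨fun a => by
      refine ⟨⟨⟨A.ι a, ⟨A.ι a, a.2, rfl⟩⟩, a.2⟩, Subtype.ext ?_⟩
      show (r ≫ A.ι) _ = _
      rw [IsOpenImmersion.lift_fac]
      rfl⟩
    haveI : IsIso r := (isIso_iff_isOpenImmersion_and_surjective r).mpr ⟨inferInstance, inferInstance⟩
    exact (P.cancel_left_of_respectsIso _ _).mpr hA

theorem subgroup_of_maxOpen (hQO : ∀ {A B : Scheme.{u}} (f : A ⟶ B), Q f → UniversallyOpen f) (hD : Descends Q P)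
    (V : G.left.Opens) (hV : P (V.ι ≫ u.left)) (hmax : ∀ W : G.left.Opens, P (W.ι ≫ u.left) → W ≤ V)
    (hVS : Q (V.ι ≫ G.hom)) :
    IsOpen (G.hom.base '' (V : Set G.left)) ∧
    (∀ g ∈ V, ∀ p : ↥(𝟙_ (Over S)).left, (𝟙_ (Over S)).hom.base p = G.hom.base g → η[G].left.base p ∈ V) ∧
    (∀ g ∈ V, ι[G].left.base g ∈ V) ∧
    (∀ z : ↥(G ⊗ G).left, (fst G G).left.base z ∈ V → (snd G G).left.base z ∈ V → μ[G].left.base z ∈ V) := by
  let T : Over S := Over.mk (V.ι ≫ G.hom)
  let j : T ⟶ G := Over.homMk V.ι rfl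
  haveI : UniversallyOpen (V.ι ≫ G.hom) := hQO _ hVS
  have key := fun (ψ : T ⟶ G) (x : T ⟶ G) (t : ↥T.left) (hx : x.left.base t ∈ V) => by
    have h := image_le u hQO hD V hV hmax ψ hVS ((lift (𝟙 T) x).left.base t)
      (by rwa [← Scheme.Hom.comp_apply, ← Over.comp_left, lift_snd])
    rw [← Scheme.Hom.comp_apply, ← Over.comp_left, lift_whiskerRight_assoc, Category.id_comp] at h
    exact (show (lift ψ x ≫ μ[G]).left.base t ∈ V from h)
  have hunit : ∀ g ∈ V, ∀ p : ↥(𝟙_ (Over S)).left, (𝟙_ (Over S)).hom.base p = G.hom.base g → η[G].left.base p ∈ V := by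
    intro g hg p hp
    have h := key j⁻¹ j ⟨g, hg⟩ hg
    rw [← Hom.mul_def, inv_mul_cancel, Hom.one_def, Over.comp_left, Scheme.Hom.comp_apply] at h
    have hp' : (toUnit T).left.base ⟨g, hg⟩ = p := by
      rw [Over.toUnit_left]
      exact hp.symm
    exact hp' ▸ h
  refine ⟨?_, hunit, fun g hg => ?_, fun z h1 h2 => ?_⟩
  · have : G.hom.base '' (V : Set G.left) = Set.range (V.ι ≫ G.hom).base := by
      ext s
      refine ⟨fun ⟨x, hx, e⟩ => ⟨⟨x, hx⟩, e⟩, fun ⟨x, e⟩ => ⟨x.1, x.2, e⟩⟩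
    rw [this, ← Set.image_univ]
    exact (V.ι ≫ G.hom).isOpenMap _ isOpen_univ
  · have h := key j⁻¹ 1 ⟨g, hg⟩ (by
      rw [Hom.one_def, Over.comp_left, Scheme.Hom.comp_apply]
      refine hunit g hg _ ?_
      rw [← Scheme.Hom.comp_apply, Over.w]
      rfl)
    rw [← Hom.mul_def, mul_one, Hom.inv_def, Over.comp_left, Scheme.Hom.comp_apply] at h
    exact h
  · let O : (G ⊗ G).left.Opens := (fst G G).left ⁻¹ᵁ V
    let X : Over S := Over.mk (O.ι ≫ (G ⊗ G).hom)
    let o : X ⟶ G ⊗ G := Over.homMk O.ι rfl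
    let a : X ⟶ T := Over.homMk ((fst G G).left ∣_ V) (by
      show (fst G G).left ∣_ V ≫ V.ι ≫ G.hom = O.ι ≫ (G ⊗ G).hom
      rw [morphismRestrict_ι_assoc, Over.w])
    have ha : a ≫ j = o ≫ fst G G := Over.OverMorphism.ext (morphismRestrict_ι _ _)
    have hz' : (lift a (o ≫ snd G G) ≫ (j ▷ G)).left.base ⟨z, h1⟩ = z := by
      rw [lift_whiskerRight, ha, lift_comp_fst_snd]
      rfl
    rw [Over.comp_left, Scheme.Hom.comp_apply] at hz'
    generalize (lift a (o ≫ snd G G)).left.base ⟨z, h1⟩ = z' at hz'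
    rw [← hz', ← Scheme.Hom.comp_apply, ← Over.comp_left]
    refine image_le u hQO hD V hV hmax j hVS z' ?_
    rw [← hz', ← Scheme.Hom.comp_apply, ← Over.comp_left, whiskerRight_snd] at h2
    exact h2

end Groth.Agent.GrpLoci.MaxOpen
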